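import Cfsg.Agent.SchmidtPLen.Type
import Cfsg.Agent.Lib.Coprime.Generation
import Cfsg.Agent.Lib.Thompson.QuadApply
import Cfsg.Agent.Lib.Thompson.WSubgroup
import Cfsg.Agent.BGSigma.SmallRank
import Cfsg.Agent.S0625

/-!
A `p`-solvable group whose Sylow `p`-subgroups look like the normal Sylow subgroup of a minimal
non-nilpotent group has `p`-length at most one.
-/

set_option autoImplicit false
set_option linter.unusedSectionVars false

namespace Cfsg.Agent.SchmidtPLen

open Cfsg Subgroup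
open scoped commutatorElement

universe u

variable {G : Type u} [Group G] [Finite G] {p : ℕ} [hp : Fact p.Prime]

/-- If the Sylow subgroup modulo `O_p` is elementary abelian but not normal, some subgroup of
index `p` in it has a normalizer in which it is not normal. -/
theorem exists_local_index_p (hps : IsPSolvable p G) (S : Sylow p G)
    (hne : (S : Subgroup G) ≠ pCore p G)
    (hel : IsElementaryAbelian p ((S : Subgroup G).map (QuotientGroup.mk' (pCore p G)))) :
    ∃ (P₀ : Subgroup G) (u : G), pCore p G ≤ P₀ ∧ P₀ ≤ (S : Subgroup G) ∧ u ∈ (S : Subgroup G) ∧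
      P₀ ⊔ zpowers u = (S : Subgroup G) ∧
      ∃ r : G, r ∈ normalizer (P₀ : Set G) ∧ r ∉ normalizer ((S : Subgroup G) : Set G) := by
  set Q := pCore p G
  set f := QuotientGroup.mk' Q
  set U := (S : Subgroup G).map f
  set R := pPrimeCore p (G ⧸ Q)
  have hQS : Q ≤ (S : Subgroup G) := Thompson.pCore_le_sylow S
  have hUS : U.comap f = (S : Subgroup G) := by
    rw [comap_map_eq, QuotientGroup.ker_mk', sup_eq_left.mpr hQS]
  have hU1 : U ≠ ⊥ := fun h => hne (le_antisymm (fun s hs => (QuotientGroup.eq_one_iff s).mp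
    (mem_bot.mp (h ▸ mem_map_of_mem f hs))) hQS)
  have hRc := Thompson.centralizer_pPrimeCore_le (Thompson.isPSolvable_quotient Q hps)
    (Thompson.pCore_quotient_pCore (p := p) (G := G))
  have hUp : IsPGroup p U := S.isPGroup'.map f
  have hUR : U ⊓ R = ⊥ :=
    Thompson.inf_eq_bot_of_isPGroup_of_coprime hUp Thompson.card_pPrimeCore_coprime
  have hbot : ¬ R ⊓ centralizer ((⊥ : Subgroup (G ⧸ Q)) : Set (G ⧸ Q)) ≤
      centralizer (U : Set (G ⧸ Q)) := by
    intro h
    apply hU1
    rw [← le_bot_iff, ← hUR]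
    refine le_inf le_rfl (le_trans (le_centralizer_iff.mp fun x hx => h ⟨hx, ?_⟩) hRc)
    exact mem_centralizer_iff.mpr fun y hy => by rw [mem_bot.mp hy, one_mul, mul_one]
  obtain ⟨B, ⟨hBU, hB⟩, hBmax⟩ := Set.exists_max_image
    {B : Subgroup (G ⧸ Q) | B ≤ U ∧ ¬ R ⊓ centralizer (B : Set (G ⧸ Q)) ≤
      centralizer (U : Set (G ⧸ Q))}
    (fun B => Nat.card B) (Set.toFinite _) ⟨⊥, bot_le, hbot⟩
  obtain ⟨A, ⟨hAU, hAB⟩, hAmax⟩ := Set.exists_max_image
    {A : Subgroup (G ⧸ Q) | A ≤ U ∧ A ⊓ B = ⊥}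
    (fun A => Nat.card A) (Set.toFinite _) ⟨⊥, bot_le, bot_inf_eq _⟩
  have hcom : ∀ x ∈ U, ∀ y ∈ U, x * y = y * x := fun x hx y hy => by
    haveI := hel.1
    exact congrArg Subtype.val (mul_comm' (⟨x, hx⟩ : U) ⟨y, hy⟩)
  have hABU : A ⊔ B = U := by
    refine le_antisymm (sup_le hAU hBU) fun x hx => ?_
    by_contra hxn
    have hA' : A ⊔ zpowers x ≤ U := sup_le hAU (zpowers_le.mpr hx)
    have hlt : Nat.card A < Nat.card ↥(A ⊔ zpowers x) := by
      refine lt_of_le_of_ne (card_le_of_le le_sup_left) fun he => hxn ?_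
      have := Subgroup.eq_of_le_of_card_ge (le_sup_left : A ≤ A ⊔ zpowers x) he.ge
      exact mem_sup_left (this ▸ mem_sup_right (mem_zpowers x) : x ∈ A)
    refine hlt.not_ge (hAmax _ ⟨hA', ?_⟩)
    rw [eq_bot_iff]
    rintro z ⟨hz, hzB⟩
    obtain ⟨a, ha, b, hb, rfl⟩ := Coprime.exists_mul_of_mem_sup (H := zpowers x)
      (fun g hg => centralizer_le_normalizer _ (mem_centralizer_iff.mpr fun a ha =>
        hcom a (hAU ha) g (zpowers_le.mpr hx hg))) hz
    obtain ⟨k, rfl⟩ := mem_zpowers_iff.mp hb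
    have hxk : x ^ k ∈ A ⊔ B := by
      have h := mul_mem (mem_sup_left (inv_mem ha) : a⁻¹ ∈ A ⊔ B) (mem_sup_right hzB)
      rwa [inv_mul_cancel_left] at h
    have hdvd : (p : ℤ) ∣ k := by
      by_contra hk
      apply hxn
      obtain ⟨c, d, hcd⟩ := ((Nat.prime_iff_prime_int.mp hp.out).coprime_iff_not_dvd.mpr hk)
      have : x = (x ^ (p : ℤ)) ^ c * (x ^ k) ^ d := by
        rw [← zpow_mul, ← zpow_mul, ← zpow_add, mul_comm _ c, mul_comm k d, hcd, zpow_one]
      rw [this, zpow_natCast, hel.2 x hx, one_zpow, one_mul]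
      exact zpow_mem hxk d
    have h1 : x ^ k = 1 := by
      obtain ⟨c, rfl⟩ := hdvd
      rw [zpow_mul, zpow_natCast, hel.2 x hx, one_zpow]
    rw [h1, mul_one] at hzB ⊢
    exact hAB ▸ (⟨ha, hzB⟩ : a ∈ A ⊓ B)
  haveI : IsMulCommutative A := ⟨⟨fun a b => Subtype.ext (hcom a (hAU a.2) b (hAU b.2))⟩⟩
  have hAc : IsCyclic A := by
    by_contra hAc
    apply hB
    refine Coprime.le_of_centralizer_le A _ _ hAc (Coprime.le_normalizer_inf
      (le_top.trans_eq (normalizer_eq_top R).symm) (Coprime.le_normalizer_centralizer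
        (fun g hg => centralizer_le_normalizer _ (mem_centralizer_iff.mpr fun b hb =>
          hcom b (hBU hb) g (hAU hg))))) ?_ fun e he he1 => ?_
    · obtain ⟨k, hk⟩ := (hUp.to_le hAU).exists_card_eq
      rw [hk]
      exact ((Thompson.card_pPrimeCore_coprime (p := p) (G := G ⧸ Q)).coprime_dvd_left
        (card_dvd_of_le inf_le_left)).symm.pow_left k
    · by_contra hcon
      have hBe : B ⊔ zpowers e ≤ U := sup_le hBU (zpowers_le.mpr (hAU he))
      have h1 := hBmax _ ⟨hBe, fun h => hcon fun g hg => h ⟨hg.1.1, ?_⟩⟩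
      · have h2 := Subgroup.eq_of_le_of_card_ge (le_sup_left : B ≤ B ⊔ zpowers e) h1
        exact he1 (mem_bot.mp (hAB ▸ (⟨he, h2 ▸ mem_sup_right (mem_zpowers e)⟩ : e ∈ A ⊓ B)))
      · refine le_centralizer_iff.mp (sup_le ?_ ?_) (mem_zpowers g) <;>
          intro y hy <;> refine mem_centralizer_iff.mpr fun z hz => ?_ <;>
          obtain ⟨j, rfl⟩ := mem_zpowers_iff.mp hz
        · exact ((show Commute g y from
            (mem_centralizer_iff.mp hg.1.2 y hy).symm).zpow_left j).eq
        · obtain ⟨i, rfl⟩ := mem_zpowers_iff.mp hy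
          exact ((show Commute g e from
            (mem_centralizer_iff.mp hg.2 e rfl).symm).zpow_zpow j i).eq
  obtain ⟨⟨a, ha⟩, hagen⟩ := hAc.exists_generator
  obtain ⟨u, hu, hfu⟩ := hAU ha
  refine ⟨B.comap f, u, fun q hq => ?_, (comap_mono hBU).trans_eq hUS, hu, ?_, ?_⟩
  · show f q ∈ B
    rw [show f q = 1 from (QuotientGroup.eq_one_iff q).mpr hq]
    exact one_mem _
  · refine le_antisymm (sup_le ((comap_mono hBU).trans_eq hUS) (zpowers_le.mpr hu)) fun s hs => ?_
    have h1 : f s ∈ B ⊔ A := by rw [sup_comm, hABU]; exact mem_map_of_mem f hs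
    obtain ⟨b, hb, c, hc, hbc⟩ := Coprime.exists_mul_of_mem_sup (H := A)
      (fun g hg => centralizer_le_normalizer _ (mem_centralizer_iff.mpr fun b hb =>
        hcom b (hBU hb) g (hAU hg))) h1
    obtain ⟨k, hk⟩ := mem_zpowers_iff.mp (hagen ⟨c, hc⟩)
    have hk' : a ^ k = c := congrArg Subtype.val hk
    have h2 : s * (u ^ k)⁻¹ ∈ B.comap f := by
      show f (s * (u ^ k)⁻¹) ∈ B
      rw [map_mul, map_inv, map_zpow, hfu, hk', hbc, mul_inv_cancel_right]
      exact hb
    simpa using mul_mem (mem_sup_left h2) (mem_sup_right (zpow_mem (mem_zpowers u) k) :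
      u ^ k ∈ B.comap f ⊔ zpowers u)
  · obtain ⟨rb, hrb, hrbU⟩ := SetLike.not_le_iff_exists.mp hB
    obtain ⟨r, rfl⟩ := QuotientGroup.mk'_surjective Q rb
    have hrn : r ∈ normalizer ((B.comap f : Subgroup G) : Set G) := by
      refine Coprime.mem_normalizer_of_le_iff (fun x hx => ?_) fun x hx => ?_ <;>
        · have h1 : Commute (f x) (f r) := mem_centralizer_iff.mp hrb.2 _ hx
          show f _ ∈ B
          simp only [map_mul, map_inv]
          first
            | rw [← h1.eq, mul_inv_cancel_right]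
            | rw [h1.inv_right.eq.symm, inv_mul_cancel_right]
          exact hx
    refine ⟨r, hrn, fun hrS => hrbU (mem_centralizer_iff.mpr fun y hy => ?_)⟩
    obtain ⟨s, hs, rfl⟩ := hy
    have h1 : ⁅f r, f s⁆ ∈ U ⊓ R := by
      refine ⟨?_, ?_⟩
      · rw [commutatorElement_def, ← map_inv, ← map_inv, ← map_mul, ← map_mul, ← map_mul]
        exact mem_map_of_mem f (mul_mem (Coprime.conj_mem_of_mem_normalizer hrS hs) (inv_mem hs))
      · rw [commutatorElement_def, mul_assoc, mul_assoc]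
        refine mul_mem hrb.1 ?_
        rw [← mul_assoc]
        exact (inferInstance : R.Normal).conj_mem _ (inv_mem hrb.1) _
    rw [hUR, mem_bot] at h1
    exact (commutatorElement_eq_one_iff_mul_comm.mp h1).symm

/-- If `Q/Z(P)` is totally isotropic and its orthogonal has index at most `p`, then
`|Q : Z(P)| ≤ p`. -/
theorem card_le_of_small_pairing {P : Type u} [Group P] [Finite P] (hP : IsPGroup p P)
    (h : HasSchmidtAut p P) (hna : center P ≠ ⊤) (Q P₀ : Subgroup P) (u : P) (hZQ : center P ≤ Q)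
    (hgen : P₀ ⊔ zpowers u = ⊤) (Y : Subgroup P) (hY : Y < center P)
    (hQP : ∀ x ∈ Q, ∀ y ∈ P₀, ⁅x, y⁆ ∈ Y) :
    Nat.card Q ≤ p * Nat.card (center P) := by
  obtain ⟨hPZ, hZP, -, q, φ, -, -, -, hfix, hirr⟩ := structure_of_schmidtAut hP h hna
  set Z := center P
  -- a maximal subgroup of the centre containing `Y`
  obtain ⟨M, hM, hYM⟩ := (eq_top_or_exists_le_coatom (Y.subgroupOf Z)).resolve_left fun h1 =>
    hY.not_ge (subgroupOf_eq_top.mp h1)
  have hMi : M.index = p := PGroup.index_eq_prime_of_isCoatom (hP.to_subgroup Z) hM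
  set Z₁ := M.map Z.subtype
  have hZ₁Z : Z₁ ≤ Z := map_subtype_le _
  haveI : Z₁.Normal := ⟨fun z hz g => by
    rwa [mem_center_iff.mp (hZ₁Z hz) g, mul_inv_cancel_right]⟩
  have hZ₁c : Nat.card Z₁ * p = Nat.card Z := by
    rw [← hMi, ← Nat.card_congr (M.equivMapOfInjective _ Z.subtype_injective).toEquiv,
      M.card_mul_index]
  have hYZ₁ : Y ≤ Z₁ := fun y hy => ⟨⟨y, hY.le hy⟩, hYM hy, rfl⟩
  set π := QuotientGroup.mk' Z₁
  -- the radical of the form is the centre
  let W : Subgroup P :=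
    { carrier := {x | ∀ y, ⁅x, y⁆ ∈ Z₁}
      one_mem' := fun y => by rw [commutatorElement_one_left]; exact one_mem _
      mul_mem' := fun {a b} ha hb y => by
        rw [PGroup.comm_mul_left hPZ]; exact mul_mem (ha y) (hb y)
      inv_mem' := fun {a} ha y => by rw [PGroup.comm_inv_left hPZ]; exact inv_mem (ha y) }
  have hZW : Z ≤ W := fun z hz y => by
    rw [commutatorElement_eq_one_iff_mul_comm.mpr (mem_center_iff.mp hz y).symm]; exact one_mem _
  have hWZ : W = Z := by
    refine (hirr W hZW fun x hx y => ?_).resolve_right fun hWt => ?_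
    · have h1 : ⁅φ x, y⁆ = ⁅x, φ.symm y⁆ := by
        nth_rewrite 1 [← φ.apply_symm_apply y]
        rw [← map_commutatorElement]
        exact (hfix _).mpr (hPZ (PGroup.commutatorElement_mem_commutator _ _))
      rw [h1]; exact hx _
    · have h1 : commutator P ≤ Z₁ := by
        rw [commutator_def, Subgroup.commutator_le]
        exact fun x _ y _ => (hWt ▸ mem_top x : x ∈ W) y
      have h2 : Nat.card Z ≤ Nat.card Z₁ := card_le_of_le (hZP.trans h1)
      rw [← hZ₁c] at h2
      have h3 : Nat.card Z₁ * 2 ≤ Nat.card Z₁ * p := Nat.mul_le_mul_left _ hp.out.two_le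
      have h4 : 0 < Nat.card Z₁ := Nat.card_pos
      omega
  let g : Q →* P ⧸ Z₁ :=
    { toFun := fun x => π ⁅(x : P), u⁆
      map_one' := by simp
      map_mul' := fun a b => by rw [Subgroup.coe_mul, PGroup.comm_mul_left hPZ, map_mul] }
  have hker : g.ker ≤ Z.subgroupOf Q := by
    intro x hx
    show (x : P) ∈ Z
    rw [← hWZ]
    intro y
    let K : Subgroup P :=
      { carrier := {y | ⁅(x : P), y⁆ ∈ Z₁}
        one_mem' := by
          show ⁅(x : P), (1 : P)⁆ ∈ Z₁
          rw [commutatorElement_one_right]; exact one_mem _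
        mul_mem' := fun {a b} ha hb => by
          show ⁅(x : P), a * b⁆ ∈ Z₁
          rw [PGroup.comm_mul_right hPZ]; exact mul_mem ha hb
        inv_mem' := fun {a} ha => by
          show ⁅(x : P), a⁻¹⁆ ∈ Z₁
          rw [PGroup.comm_inv_right hPZ]; exact inv_mem ha }
    exact (hgen.ge.trans (sup_le (fun a ha => hYZ₁ (hQP x x.2 a ha))
      (zpowers_le.mpr (show ⁅(x : P), u⁆ ∈ Z₁ from (QuotientGroup.eq_one_iff _).mp hx))) : (⊤ : Subgroup P) ≤ K) (mem_top y)
  have hrange : g.range ≤ Z.map π := by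
    rintro _ ⟨x, rfl⟩
    exact mem_map_of_mem π (hPZ (PGroup.commutatorElement_mem_commutator _ _))
  have h1 : Nat.card (Z.map π) = p := by
    have h2 := Thompson.card_comap_quotient Z₁ (Z.map π)
    rw [comap_map_eq, QuotientGroup.ker_mk', sup_eq_left.mpr hZ₁Z, ← hZ₁c] at h2
    rw [mul_comm (Nat.card _) p] at h2
    exact (Nat.eq_of_mul_eq_mul_right Nat.card_pos h2).symm
  calc Nat.card Q = Nat.card g.ker * Nat.card g.range := by rw [← g.ker.card_mul_index, index_ker]
    _ ≤ Nat.card (Z.subgroupOf Q) * p :=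
        Nat.mul_le_mul (card_le_of_le hker) (h1 ▸ card_le_of_le hrange)
    _ = p * Nat.card Z := by
        rw [Nat.card_congr (subgroupOfEquivOfLe hZQ).toEquiv, mul_comm]

/-- The core statement: with trivial `p'`-core the Sylow subgroup is `O_p`. -/
theorem sylow_eq_pCore (hps : IsPSolvable p G) (hO : pPrimeCore p G = ⊥) (S : Sylow p G)
    (h : HasSchmidtAut p (S : Subgroup G)) : (S : Subgroup G) = pCore p G := by
  set Q := pCore p G
  set S' := (S : Subgroup G)
  have hQS : Q ≤ S' := Thompson.pCore_le_sylow S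
  have hC : centralizer (Q : Set G) ≤ Q := Thompson.centralizer_pCore_le hps hO
  by_cases hab : center S' = ⊤
  · refine le_antisymm (fun s hs => hC (mem_centralizer_iff.mpr fun w hw => ?_)) hQS
    exact congrArg Subtype.val
      (mem_center_iff.mp (hab ▸ mem_top (⟨s, hs⟩ : S')) ⟨w, hQS hw⟩)
  by_contra hne
  obtain ⟨hPZ, hZP, hpow, -, -, -, -, -, -, -⟩ := structure_of_schmidtAut S.isPGroup' h hab
  set Z := (center S').map S'.subtype with hZdef
  have hZS : Z ≤ S' := map_subtype_le _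
  have hZc : ∀ z ∈ Z, ∀ s ∈ S', z * s = s * z := by
    rintro _ ⟨z, hz, rfl⟩ s hs
    exact (congrArg Subtype.val (mem_center_iff.mp hz ⟨s, hs⟩)).symm
  have hZQ : Z ≤ Q := fun z hz => hC (mem_centralizer_iff.mpr fun w hw => (hZc z hz w (hQS hw)).symm)
  have hcommS : ∀ x ∈ S', ∀ y ∈ S', ⁅x, y⁆ ∈ Z := fun x hx y hy =>
    ⟨⁅(⟨x, hx⟩ : S'), ⟨y, hy⟩⁆, hPZ (PGroup.commutatorElement_mem_commutator _ _), rfl⟩
  have hpowS : ∀ x ∈ S', x ^ p ∈ Z := fun x hx => ⟨(⟨x, hx⟩ : S') ^ p, hpow _, rfl⟩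
  have hel : IsElementaryAbelian p (S'.map (QuotientGroup.mk' Q)) := by
    refine ⟨⟨⟨fun a b => ?_⟩⟩, ?_⟩
    · obtain ⟨a, x, hx, rfl⟩ := a
      obtain ⟨b, y, hy, rfl⟩ := b
      refine Subtype.ext ?_
      show _ * _ = _ * _
      rw [← commutatorElement_eq_one_iff_mul_comm, ← map_commutatorElement]
      exact (QuotientGroup.eq_one_iff _).mpr (hZQ (hcommS x hx y hy))
    · rintro _ ⟨x, hx, rfl⟩
      rw [← map_pow]
      exact (QuotientGroup.eq_one_iff _).mpr (hZQ (hpowS x hx))
  obtain ⟨P₀, u, hQP₀, hP₀S, hu, hgen, r, hr, hrS⟩ := exists_local_index_p hps S hne hel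
  set Y := ⁅Q, P₀⁆ with hYdef
  have hYZ : Y ≤ Z := commutator_le.mpr fun x hx y hy => hcommS x (hQS hx) y (hP₀S hy)
  -- `Y` is proper in the centre
  have hYlt : Y ≠ Z := by
    intro hYeq
    apply hrS
    set L := normalizer (P₀ : Set G)
    have hSL : S' ≤ L := by
      refine Coprime.le_normalizer_of_conj_mem fun s hs x hx => ?_
      have h1 : ⁅s, x⁆ ∈ P₀ := hQP₀ (hZQ (hcommS s hs x (hP₀S hx)))
      simpa [commutatorElement_def] using mul_mem h1 hx
    have hLY : L ≤ normalizer (Z : Set G) := by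
      rw [← hYeq]
      refine le_trans (le_inf (le_top.trans_eq (normalizer_eq_top Q).symm) le_rfl) ?_
      intro g hg
      refine mem_normalizer_iff_map_conj_eq.mpr ?_
      rw [hYdef, map_commutator, mem_normalizer_iff_map_conj_eq.mp hg.1,
        mem_normalizer_iff_map_conj_eq.mp hg.2]
    -- the kernel of the action on the chain `1 ≤ Z ≤ Q`
    let K : Subgroup G :=
      { carrier := {g | g ∈ L ∧ g ∈ centralizer (Z : Set G) ∧ ∀ w ∈ Q, g * w * g⁻¹ * w⁻¹ ∈ Z}
        one_mem' := ⟨one_mem _, one_mem _, fun w _ => by simp⟩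
        mul_mem' := fun {a b} ha hb => ⟨mul_mem ha.1 hb.1, mul_mem ha.2.1 hb.2.1, fun w hw => by
          have h2 := mul_mem (Coprime.conj_mem_of_mem_normalizer (hLY ha.1) (hb.2.2 w hw))
            (ha.2.2 w hw)
          simpa [mul_assoc] using h2⟩
        inv_mem' := fun {a} ha => ⟨inv_mem ha.1, inv_mem ha.2.1, fun w hw => by
          have h2 := ha.2.2 (a⁻¹ * w * a) ((inferInstance : Q.Normal).conj_mem' w hw a)
          simpa [mul_assoc] using inv_mem h2⟩ }
    have hKn : L ≤ normalizer (K : Set G) := by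
      refine Coprime.le_normalizer_of_conj_mem fun g hg x hx =>
        ⟨mul_mem (mul_mem hg hx.1) (inv_mem hg), ?_, fun w hw => ?_⟩
      · exact Coprime.conj_mem_of_mem_normalizer (Coprime.le_normalizer_centralizer hLY hg) hx.2.1
      · have h2 := Coprime.conj_mem_of_mem_normalizer (hLY hg)
          (hx.2.2 (g⁻¹ * w * g) ((inferInstance : Q.Normal).conj_mem' w hw g))
        simpa [mul_assoc] using h2
    have hSK : S' ≤ K := fun s hs => ⟨hSL hs,
      mem_centralizer_iff.mpr fun z hz => hZc z hz s hs, fun w hw => hcommS s hs w (hQS hw)⟩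
    have hKp : IsPGroup p K := by
      intro x
      obtain ⟨e, m, hm, he⟩ := Nat.exists_eq_pow_mul_and_not_dvd (orderOf_pos (x : G)).ne' p
        hp.out.ne_one
      set g : G := (x : G) ^ p ^ e with hg
      have hgm : g ^ m = 1 := by rw [hg, ← pow_mul, ← he, pow_orderOf_eq_one]
      have hgK : g ∈ K := pow_mem x.2 _
      refine ⟨e, Subtype.ext ?_⟩
      show g = 1
      have hgC : g ∈ centralizer (Q : Set G) := mem_centralizer_iff.mpr fun w hw => by
        set d := g * w * g⁻¹ * w⁻¹ with hd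
        have hdZ : d ∈ Z := hgK.2.2 w hw
        have hgd : Commute g d := (mem_centralizer_iff.mp hgK.2.1 d hdZ).symm
        have hpw : ∀ j : ℕ, g ^ j * w * (g ^ j)⁻¹ = d ^ j * w := by
          intro j
          induction j with
          | zero => simp
          | succ j ih =>
            calc g ^ (j + 1) * w * (g ^ (j + 1))⁻¹
                = g * (g ^ j * w * (g ^ j)⁻¹) * g⁻¹ := by rw [pow_succ']; group
              _ = g * d ^ j * w * g⁻¹ := by rw [ih]; group
              _ = d ^ j * (g * w * g⁻¹ * w⁻¹) * w := by rw [(hgd.pow_right j).eq]; group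
              _ = d ^ (j + 1) * w := by rw [← hd, ← pow_succ]
        have hd1 : d ^ m = 1 := by
          have h2 := hpw m
          rwa [hgm, one_mul, inv_one, mul_one, right_eq_mul] at h2
        obtain ⟨k, hk⟩ := S.isPGroup' ⟨d, hZS hdZ⟩
        have hd2 : d ^ p ^ k = 1 := congrArg Subtype.val hk
        have hd3 : d = 1 := Thompson.pow_eq_one_iff_of_coprime_aux
          ((hp.out.coprime_iff_not_dvd.mpr hm).pow_left k) hd2 hd1
        rw [hd, mul_inv_eq_one, mul_inv_eq_iff_eq_mul] at hd3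
        exact hd3.symm
      obtain ⟨k, hk⟩ := S.isPGroup' ⟨g, hQS (hC hgC)⟩
      exact Thompson.pow_eq_one_iff_of_coprime_aux
        ((hp.out.coprime_iff_not_dvd.mpr hm).pow_left k) (congrArg Subtype.val hk) hgm
    have hKS : K = S' := S.is_maximal' hKp hSK
    exact (congrArg (fun H : Subgroup G => normalizer (H : Set G)) hKS).le (hKn hr)
  -- pass to the Sylow subgroup
  set Y' := Y.subgroupOf S'
  have hY'lt : Y' < center S' := by
    refine lt_of_le_of_ne (fun y hy => ?_) fun h1 => hYlt ?_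
    · obtain ⟨z, hz, hzy⟩ := hYZ hy
      rwa [← Subtype.ext hzy]
    · rw [hZdef, ← h1, map_subgroupOf_eq_of_le (hYZ.trans hZS)]
  have hgen' : P₀.subgroupOf S' ⊔ zpowers (⟨u, hu⟩ : S') = ⊤ := by
    refine map_injective S'.subtype_injective ?_
    rw [Subgroup.map_sup, map_subgroupOf_eq_of_le hP₀S, MonoidHom.map_zpowers,
      ← MonoidHom.range_eq_map, Subgroup.range_subtype]
    exact hgen
  have hcard := card_le_of_small_pairing S.isPGroup' h hab (Q.subgroupOf S') (P₀.subgroupOf S')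
    ⟨u, hu⟩ (fun z hz => hZQ ⟨z, hz, rfl⟩) hgen' Y' hY'lt
    (fun x hx y hy => commutator_mem_commutator hx hy)
  set Q' := Q.subgroupOf S'
  have hZQ' : center S' ≤ Q' := fun z hz => hZQ ⟨z, hz, rfl⟩
  obtain ⟨w, hwQ, hwZ⟩ : ∃ w ∈ Q', w ∉ center S' := by
    by_contra hcon
    push Not at hcon
    refine hne (le_antisymm (fun s hs => hC (mem_centralizer_iff.mpr fun v hv => ?_)) hQS)
    exact (congrArg Subtype.val
      (mem_center_iff.mp (hcon ⟨v, hQS hv⟩ hv) ⟨s, hs⟩)).symm
  have hQw : Q' = center S' ⊔ zpowers w := by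
    refine (Subgroup.eq_of_le_of_card_ge (sup_le hZQ' (zpowers_le.mpr hwQ)) ?_).symm
    rw [card_center_sup_zpowers hwZ (hpow w), mul_comm]
    exact hcard
  have hCw : centralizer ({w} : Set S') ≤ center S' ⊔ zpowers w := by
    intro x hx
    rw [← hQw]
    refine hC (mem_centralizer_iff.mpr fun v hv => ?_)
    have hv' : (⟨v, hQS hv⟩ : S') ∈ center S' ⊔ zpowers w := hQw ▸ hv
    obtain ⟨z, hz, y, hy, hzy⟩ := mem_sup_of_normal_left.mp hv'
    obtain ⟨i, rfl⟩ := mem_zpowers_iff.mp hy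
    have hc : Commute x (z * w ^ i) := Commute.mul_right (mem_center_iff.mp hz x)
      ((show Commute x w from mem_centralizer_singleton_iff.mp hx).zpow_right i)
    rw [hzy] at hc
    exact (congrArg Subtype.val hc.eq).symm
  obtain ⟨hZp, hp3, hp2⟩ := endgame S.isPGroup' h hwZ hCw
  rcases (hp.out.two_le : 2 ≤ p).eq_or_lt with hp' | hp'
  · -- `p = 2`: `O₂` is cyclic
    obtain rfl := hp'
    have hQc : Nat.card Q = 4 := by
      rw [← Nat.card_congr (subgroupOfEquivOfLe hQS).toEquiv, show Q.subgroupOf S' = _ from hQw,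
        card_center_sup_zpowers hwZ (hpow w), hZp]
    have hwQ' : (w : G) ∈ Q := hwQ
    have hord : orderOf (w : G) = 4 := by
      refine orderOf_eq_prime_pow (p := 2) (n := 1) ?_ ?_
      · rw [pow_one, ← Subgroup.coe_pow]
        exact fun h1 => hp2 rfl w hwZ (Subtype.ext h1)
      · rw [show (2 : ℕ) ^ (1 + 1) = Nat.card Q by rw [hQc]; norm_num]
        exact congrArg Subtype.val (pow_card_eq_one' (x := (⟨_, hwQ'⟩ : Q)))
    have hQz : Q = zpowers (w : G) := (Subgroup.eq_of_le_of_card_ge (zpowers_le.mpr hwQ')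
      (by rw [Nat.card_zpowers, hord, hQc])).symm
    have hder : ∀ g k : G, ⁅g, k⁆ ∈ Q := by
      intro g k
      refine hC ?_
      rw [hQz, zpowers_eq_closure, centralizer_closure]
      have key : ∀ g : G, ∃ i : ℤ, g * (w : G) * g⁻¹ = (w : G) ^ i := fun g => by
        obtain ⟨i, hi⟩ := mem_zpowers_iff.mp
          (hQz ▸ (inferInstance : Q.Normal).conj_mem _ hwQ' g : g * (w : G) * g⁻¹ ∈ zpowers (w : G))
        exact ⟨i, hi.symm⟩
      suffices key2 : ∀ g k : G, Commute ((k * g)⁻¹ * (g * k)) (w : G) by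
        refine mem_centralizer_singleton_iff.mpr ?_
        have h2 := key2 g⁻¹ k⁻¹
        rwa [show (k⁻¹ * g⁻¹)⁻¹ * (g⁻¹ * k⁻¹) = ⁅g, k⁆ by rw [commutatorElement_def]; group] at h2
      intro g k
      obtain ⟨i, hi⟩ := key g
      obtain ⟨j, hj⟩ := key k
      have e1 : (g * k) * (w : G) * (g * k)⁻¹ = (k * g) * (w : G) * (k * g)⁻¹ := by
        calc (g * k) * (w : G) * (g * k)⁻¹ = g * (k * (w : G) * k⁻¹) * g⁻¹ := by group
          _ = (g * (w : G) * g⁻¹) ^ j := by rw [hj, conj_zpow]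
          _ = (k * (w : G) * k⁻¹) ^ i := by rw [hi, hj, ← zpow_mul, ← zpow_mul, mul_comm]
          _ = k * (g * (w : G) * g⁻¹) * k⁻¹ := by rw [hi, conj_zpow]
          _ = (k * g) * (w : G) * (k * g)⁻¹ := by group
      calc (k * g)⁻¹ * (g * k) * (w : G)
          = (k * g)⁻¹ * ((g * k) * (w : G) * (g * k)⁻¹) * (g * k) := by group
        _ = (k * g)⁻¹ * ((k * g) * (w : G) * (k * g)⁻¹) * (g * k) := by rw [e1]
        _ = (w : G) * ((k * g)⁻¹ * (g * k)) := by group
    have hSn : S'.Normal := ⟨fun s hs g => by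
      simpa [commutatorElement_def] using mul_mem (hQS (hder g s)) hs⟩
    exact hne (le_antisymm (Thompson.le_pCore hSn S.isPGroup') hQS)
  · -- `p ≥ 5`
    have h5 : 5 ≤ p := by
      have h4 : p ≠ 4 := by rintro rfl; exact absurd hp.out (by norm_num)
      omega
    obtain ⟨-, hst, -⟩ := Cfsg.Agent.S0625.result h5 hps
    refine hne (le_antisymm (fun s hs => ?_) hQS)
    obtain ⟨D, hDn, hKD, ⟨k, hk⟩, hsD⟩ := hst s (by
      refine le_trans ?_ bot_le
      rw [le_bot_iff, commutator_eq_bot_iff_le_centralizer]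
      refine (commutator_le.mpr fun x hx y hy => hcommS x (hQS hx) y
        (zpowers_le.mpr hs hy) : ⁅Q, zpowers s⁆ ≤ Z).trans fun z hz => ?_
      exact mem_centralizer_iff.mpr fun y hy => (hZc z hz y (zpowers_le.mpr hs hy)).symm)
    refine Thompson.le_pCore hDn ?_ hsD
    obtain ⟨j, hj⟩ := (Thompson.isPGroup_sectionKernel hC).exists_card_eq
    refine IsPGroup.of_card (n := j + k) ?_
    rw [← relIndex_bot_left, ← relIndex_mul_relIndex ⊥ _ _ bot_le hKD, relIndex_bot_left, hk, hj,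
      pow_add]

/-- Passing to the quotient by `O_{p'}`. -/
theorem plengthLE_one (hps : IsPSolvable p G) (S : Sylow p G)
    (h : HasSchmidtAut p (S : Subgroup G)) : PLengthLE p 1 G := by
  rw [BGSigma.plengthLE_one_iff]
  set D := pPrimeCore p G
  have hs := QuotientGroup.mk'_surjective D
  set T := S.mapSurjective hs
  let e : (S : Subgroup G) ≃* ((T : Subgroup (G ⧸ D))) :=
    MulEquiv.ofBijective (((QuotientGroup.mk' D).comp (S : Subgroup G).subtype).codRestrict _
      fun s => by rw [Sylow.coe_mapSurjective]; exact mem_map_of_mem _ s.2)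
    ⟨(injective_iff_map_eq_one _).mpr fun s hs1 => by
      have h2 : (s : G) ∈ (S : Subgroup G) ⊓ D :=
        ⟨s.2, (QuotientGroup.eq_one_iff _).mp (congrArg Subtype.val hs1)⟩
      rw [Thompson.inf_eq_bot_of_isPGroup_of_coprime S.isPGroup'
        Thompson.card_pPrimeCore_coprime, mem_bot] at h2
      exact Subtype.ext h2, fun t => by
      obtain ⟨t, ht⟩ := t
      rw [Sylow.coe_mapSurjective] at ht
      obtain ⟨s, hs', rfl⟩ := ht
      exact ⟨⟨s, hs'⟩, rfl⟩⟩
  have hT := sylow_eq_pCore (Thompson.isPSolvable_quotient D hps) Thompson.pPrimeCore_quotient_pPrimeCore T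
    (h.of_equiv e)
  rw [pPrimePCore, ← hT, index_comap_of_surjective _ hs]
  exact T.not_dvd_index

end Cfsg.Agent.SchmidtPLen
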