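import Cfsg.Prelude.Def_SolvableStructure
import Cfsg.Agent.Lib.Solvable.Schmidt
import Cfsg.Agent.Lib.PGroup.Basic
import Cfsg.Agent.Lib.PGroup.Commutator
import Cfsg.Agent.Lib.Thompson.Cores
import Cfsg.Agent.Lib.Coprime.SchurZassenhaus

/-!
The automorphism carried by the normal Sylow subgroup of a minimal non-nilpotent group, and the
structure of a nonabelian `p`-group with such an automorphism.
-/

set_option autoImplicit false

namespace Cfsg.Agent.SchmidtPLen

open Subgroup
open scoped commutatorElement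

universe u

/-- `P` has a nontrivial automorphism of prime order `q ≠ p` fixing every proper invariant
subgroup pointwise. -/
def HasSchmidtAut (p : ℕ) (P : Type u) [Group P] : Prop :=
  ∃ (q : ℕ) (φ : MulAut P), q.Prime ∧ q ≠ p ∧ φ ^ q = 1 ∧ φ ≠ 1 ∧
    ∀ W : Subgroup P, W ≠ ⊤ → (∀ x ∈ W, φ x ∈ W) → ∀ x ∈ W, φ x = x

theorem HasSchmidtAut.of_equiv {p : ℕ} {P P' : Type*} [Group P] [Group P'] (e : P ≃* P')
    (h : HasSchmidtAut p P) : HasSchmidtAut p P' := by
  obtain ⟨q, φ, hq, hqp, hφq, hφ1, hW⟩ := h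
  refine ⟨q, MulAut.congr e φ, hq, hqp, by rw [← map_pow, hφq, map_one],
    fun h => hφ1 ((MulAut.congr e).injective (h.trans (map_one _).symm)),
    fun W hWt hinv x hx => ?_⟩
  have h1 : W.comap e.toMonoidHom ≠ ⊤ := fun h => hWt (by
    rw [← map_comap_eq_self_of_surjective (f := e.toMonoidHom) e.surjective W, h,
      map_top_of_surjective _ e.surjective])
  have h2 := hW _ h1 (fun y hy => by
    have := hinv (e y) hy
    show e (φ y) ∈ W
    simpa using this) (e.symm x) (by show e (e.symm x) ∈ W; simpa using hx)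
  show e (φ (e.symm x)) = x
  rw [h2, e.apply_symm_apply]

/-- The normal Sylow subgroup of a minimal non-nilpotent group. -/
theorem hasSchmidtAut_of_minimal {X : Type u} [Group X] [Finite X] {p : ℕ} [hp : Fact p.Prime]
    (hX : Cfsg.IsMinimalNonNilpotent X) (P : Sylow p X) (hPn : (P : Subgroup X).Normal)
    (hP1 : (P : Subgroup X) ≠ ⊥) : HasSchmidtAut p (P : Subgroup X) := by
  obtain ⟨r, s, hr, hs, hrs, R, S, hRc, hSn, htop⟩ :=
    Solvable.minimalNonNilpotent_structure hX.1 hX.2
  haveI := Fact.mk hr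
  haveI := Fact.mk hs
  have hcard : Nat.card X ∣ Nat.card R * Nat.card S := by
    rw [← card_top, ← htop]
    exact ⟨_, (Solvable.card_sup_mul_card_inf (R : Subgroup X) S).symm⟩
  have hpX : p ∣ Nat.card X := (P.isPGroup'.exists_card_eq.elim fun k hk => by
    have hk0 : k ≠ 0 := fun h => hP1 (eq_bot_of_card_eq _ (by rw [hk, h, pow_zero]))
    exact ((dvd_pow_self p hk0).trans hk.symm.dvd).trans (card_subgroup_dvd_card _))
  have hps : p = s := by
    rcases hp.out.dvd_mul.mp (hpX.trans hcard) with h | h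
    · obtain ⟨k, hk⟩ := R.isPGroup'.exists_card_eq
      rw [hk] at h
      obtain rfl := (Nat.prime_dvd_prime_iff_eq hp.out hr).mp (hp.out.dvd_of_dvd_pow h)
      haveI := Sylow.unique_of_normal P hPn
      obtain rfl : R = P := Subsingleton.elim R P
      -- both Sylow subgroups are normal and nilpotent
      exfalso
      refine hX.1 (((Group.isNilpotent_of_finite_tfae (G := X)).out 0 3 rfl rfl).2 fun t ht T => ?_)
      by_cases htp : t = p
      · subst htp; rw [Subsingleton.elim T R]; exact hPn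
      by_cases hts : t = s
      · subst hts
        haveI := Sylow.unique_of_normal S hSn
        rw [Subsingleton.elim T S]; exact hSn
      · have h1 : ¬ t ∣ Nat.card X := fun hd => by
          obtain ⟨i, hi⟩ := R.isPGroup'.exists_card_eq
          obtain ⟨j, hj⟩ := S.isPGroup'.exists_card_eq
          rcases ht.out.dvd_mul.mp (hd.trans hcard) with h | h
          · rw [hi] at h
            exact htp ((Nat.prime_dvd_prime_iff_eq ht.out hp.out).mp (ht.out.dvd_of_dvd_pow h))
          · rw [hj] at h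
            exact hts ((Nat.prime_dvd_prime_iff_eq ht.out hs).mp (ht.out.dvd_of_dvd_pow h))
        have : (T : Subgroup X) = ⊥ := by
          obtain ⟨i, hi⟩ := T.isPGroup'.exists_card_eq
          refine eq_bot_of_card_eq _ ?_
          rcases Nat.eq_zero_or_pos i with rfl | hi0
          · rw [hi, pow_zero]
          · exact absurd (((dvd_pow_self t hi0.ne').trans hi.symm.dvd).trans
              (card_subgroup_dvd_card _)) h1
        rw [this]; infer_instance
    · obtain ⟨k, hk⟩ := S.isPGroup'.exists_card_eq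
      rw [hk] at h
      exact (Nat.prime_dvd_prime_iff_eq hp.out hs).mp (hp.out.dvd_of_dvd_pow h)
  subst hps
  haveI := Sylow.unique_of_normal P hPn
  obtain rfl : S = P := Subsingleton.elim S P
  set P' := (S : Subgroup X)
  haveI := hPn
  obtain ⟨⟨a, haR⟩, ha⟩ := hRc.exists_generator
  have hgen : P' ⊔ zpowers a = ⊤ := by
    rw [eq_top_iff, ← htop]
    refine sup_le (fun x hx => ?_) le_sup_left
    obtain ⟨k, hk⟩ := mem_zpowers_iff.mp (ha ⟨x, hx⟩)
    exact mem_sup_right (mem_zpowers_iff.mpr ⟨k, congrArg Subtype.val hk⟩)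
  obtain ⟨e, he⟩ := IsPGroup.iff_orderOf.mp R.isPGroup' ⟨a, haR⟩
  rw [Subgroup.orderOf_mk] at he
  have hco : ∀ x ∈ P', (orderOf x).Coprime (orderOf a) := fun x hx => by
    obtain ⟨i, hi⟩ := IsPGroup.iff_orderOf.mp S.isPGroup' ⟨x, hx⟩
    rw [Subgroup.orderOf_mk] at hi
    rw [hi, he]
    exact Nat.Coprime.pow _ _ ((Nat.coprime_primes hp.out hr).2 (Ne.symm hrs))
  -- commuting inside proper subgroups
  have hcomm : ∀ (W : Subgroup X) (k : ℕ), W ≤ P' → W ⊔ zpowers (a ^ k) ≠ ⊤ →
      ∀ x ∈ W, a ^ k * x = x * a ^ k := fun W k hW hne x hx => by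
    have hc : (orderOf x).Coprime (orderOf (a ^ k)) :=
      (hco x (hW hx)).coprime_dvd_right (orderOf_dvd_of_pow_eq_one (by
        rw [← pow_mul, mul_comm, pow_mul, pow_orderOf_eq_one, one_pow]))
    exact (congrArg Subtype.val (Cfsg.Agent.Transfer.nilpotent_commute_of_coprime (hX.2 _ hne)
      (x := ⟨x, mem_sup_left hx⟩) (y := ⟨a ^ k, mem_sup_right (mem_zpowers _)⟩)
      (by simpa only [Subgroup.orderOf_mk] using hc)).eq).symm
  let φ : MulAut P' := MulAut.conjNormal a
  have hφ : ∀ (k : ℕ) (x : P'), (((φ ^ k) x : P') : X) = a ^ k * (x : X) * (a ^ k)⁻¹ := fun k x => by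
    rw [← map_pow]; exact MulAut.conjNormal_apply _ _
  have hbotR : ∀ y ∈ zpowers a, y ∈ P' → y = 1 := fun y hy hyP => orderOf_eq_one_iff.mp
    (Nat.eq_one_of_dvd_coprimes (hco y hyP) dvd_rfl (by
      obtain ⟨i, rfl⟩ := mem_zpowers_iff.mp hy
      exact orderOf_dvd_of_pow_eq_one (by
        rw [← zpow_natCast, ← zpow_mul, mul_comm, zpow_mul, zpow_natCast, pow_orderOf_eq_one,
          one_zpow])))
  have hne1 : a ≠ 1 := fun h => by
    rw [h, zpowers_one_eq_bot, sup_bot_eq] at hgen
    exact hX.1 (Group.nilpotent_of_mulEquiv (_h := S.isPGroup'.isNilpotent)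
      ((MulEquiv.subgroupCongr hgen).trans topEquiv))
  refine ⟨r, φ, hr, hrs, ?_, ?_, ?_⟩
  · refine MulEquiv.ext fun x => Subtype.ext ?_
    rw [hφ]
    have hne : P' ⊔ zpowers (a ^ r) ≠ ⊤ := fun h => by
      have h1 : a ∈ P' ⊔ zpowers (a ^ r) := by rw [h]; exact mem_top _
      obtain ⟨x, hx, y, hy, hxy⟩ := mem_sup_of_normal_left.mp h1
      have hy' : y ∈ zpowers a := zpowers_le.mpr (pow_mem (mem_zpowers a) r) hy
      have hx1 : x = 1 := hbotR x (by
        rw [eq_mul_inv_of_mul_eq hxy]; exact mul_mem (mem_zpowers a) (inv_mem hy')) hx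
      rw [hx1, one_mul] at hxy
      subst hxy
      have h2 : orderOf y ∣ orderOf (y ^ r) := by
        obtain ⟨i, hi⟩ := mem_zpowers_iff.mp hy
        refine orderOf_dvd_of_pow_eq_one ?_
        nth_rewrite 1 [← hi]
        rw [← zpow_natCast, ← zpow_mul, mul_comm, zpow_mul, zpow_natCast, pow_orderOf_eq_one,
          one_zpow]
      rcases Nat.eq_zero_or_pos e with rfl | he0
      · exact hne1 (orderOf_eq_one_iff.mp (by rw [he, pow_zero]))
      · rw [orderOf_pow_of_dvd hr.ne_zero (he ▸ dvd_pow_self r he0.ne')] at h2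
        exact Nat.not_dvd_of_pos_of_lt
          (Nat.div_pos (Nat.le_of_dvd (orderOf_pos y) (he ▸ dvd_pow_self r he0.ne')) hr.pos)
          (Nat.div_lt_self (orderOf_pos y) hr.one_lt) h2
    rw [hcomm P' r le_rfl hne x x.2, mul_inv_cancel_right, MulAut.one_apply]
  · intro h1
    refine hX.1 ?_
    have hac : a ∈ center X := mem_center_iff.mpr fun g => by
      obtain ⟨x, hx, y, hy, rfl⟩ := mem_sup_of_normal_left.mp (hgen ▸ mem_top g)
      have h2 := hφ 1 ⟨x, hx⟩
      rw [pow_one, h1, MulAut.one_apply, pow_one] at h2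
      obtain ⟨i, rfl⟩ := mem_zpowers_iff.mp hy
      have hxa : Commute x a := (eq_mul_inv_iff_mul_eq.mp h2).trans rfl
      exact ((hxa.mul_left ((Commute.refl a).zpow_left i))).eq
    have hq : IsPGroup p (X ⧸ center X) := fun g => by
      obtain ⟨g, rfl⟩ := QuotientGroup.mk'_surjective (center X) g
      obtain ⟨x, hx, y, hy, rfl⟩ := mem_sup_of_normal_left.mp (hgen ▸ mem_top g)
      obtain ⟨i, hi⟩ := S.isPGroup' ⟨x, hx⟩
      refine ⟨i, ?_⟩
      rw [map_mul, show QuotientGroup.mk' (center X) y = 1 from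
        (QuotientGroup.eq_one_iff y).mpr (zpowers_le.mpr hac hy), mul_one, ← map_pow,
        show x ^ p ^ i = 1 from congrArg Subtype.val hi, map_one]
    exact Group.of_quotient_center_nilpotent hq.isNilpotent
  · intro W hW hinv x hx
    set W' := W.map P'.subtype
    have hne : W' ⊔ zpowers (a ^ 1) ≠ ⊤ := by
      rw [pow_one]
      intro h
      apply hW
      refine eq_top_iff.mpr fun y _ => ?_
      have hn : zpowers a ≤ normalizer (W' : Set X) := by
        rw [zpowers_le, mem_normalizer_iff_map_conj_eq]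
        refine eq_of_le_of_card_ge ?_
          (Nat.card_congr (equivMapOfInjective _ _ (MulAut.conj a).injective).toEquiv).le
        rintro _ ⟨_, ⟨w, hw, rfl⟩, rfl⟩
        exact ⟨φ w, hinv w hw, MulAut.conjNormal_apply _ _⟩
      have h1 : (y : X) ∈ W' ⊔ zpowers a := by rw [h]; exact mem_top _
      obtain ⟨w, hw, z, hz, hwz⟩ := Coprime.exists_mul_of_mem_sup hn h1
      have hz1 : z = 1 := hbotR z hz (by
        rw [eq_inv_mul_of_mul_eq hwz.symm]; exact mul_mem (inv_mem (map_subtype_le _ hw)) y.2)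
      rw [hz1, mul_one] at hwz
      obtain ⟨w', hw', hw''⟩ := hw
      rwa [show y = w' from Subtype.ext (hwz.trans hw''.symm)]
    refine Subtype.ext ?_
    have := hcomm W' 1 (map_subtype_le _) hne x (mem_map_of_mem _ hx)
    have h2 := hφ 1 x
    rw [pow_one] at h2
    rw [h2, this, mul_inv_cancel_right]

/-- Structure of a nonabelian `p`-group with a Schmidt automorphism. -/
theorem structure_of_schmidtAut {P : Type u} [Group P] [Finite P] {p : ℕ} [hp : Fact p.Prime]
    (hP : IsPGroup p P) (h : HasSchmidtAut p P) (hna : center P ≠ ⊤) :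
    commutator P ≤ center P ∧ center P ≤ commutator P ∧ (∀ x : P, x ^ p ∈ center P) ∧
      ∃ (q : ℕ) (φ : MulAut P), q.Prime ∧ q ≠ p ∧ φ ^ q = 1 ∧ (∀ x, φ x = x ↔ x ∈ center P) ∧
        (∀ W : Subgroup P, center P ≤ W → (∀ x ∈ W, φ x ∈ W) → W = center P ∨ W = ⊤) := by
  obtain ⟨q, φ, hq, hqp, hφq, hφ1, hW⟩ := h
  have hnt : Nontrivial P := by
    by_contra hh
    rw [not_nontrivial_iff_subsingleton] at hh
    exact hna (eq_top_iff.mpr fun x _ => by rw [Subsingleton.elim x 1]; exact one_mem _)
  have hinvchar : ∀ W : Subgroup P, W.Characteristic → ∀ x ∈ W, φ x ∈ W := fun W hWc x hx =>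
    (characteristic_iff_le_comap.mp hWc φ) hx
  -- moving along a fixed displacement is trivial
  have hdisp : ∀ x d : P, φ x = x * d → φ d = d → d = 1 := by
    intro x d hx hd
    have hpow : ∀ n : ℕ, (φ ^ n) x = x * d ^ n := by
      intro n
      induction n with
      | zero => simp
      | succ n ih => rw [pow_succ', MulAut.mul_apply, ih, map_mul, map_pow, hd, hx, mul_assoc,
          ← pow_succ']
    have h1 := hpow q
    rw [hφq, MulAut.one_apply, left_eq_mul] at h1
    exact PGroup.eq_one_of_pow_coprime hP ((Nat.coprime_primes hp.out hq).2 hqp.symm) h1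
  have hgen : closure (Set.range fun x => x⁻¹ * φ x) = ⊤ := by
    by_contra hne
    refine hφ1 (MulEquiv.ext fun x => ?_)
    have hd : φ (x⁻¹ * φ x) = x⁻¹ * φ x := by
      refine hW _ hne ?_ _ (subset_closure ⟨x, rfl⟩)
      intro y hy
      induction hy using closure_induction with
      | mem y hy =>
        obtain ⟨z, rfl⟩ := hy
        exact subset_closure ⟨φ z, by simp [map_mul, map_inv]⟩
      | one => rw [map_one]; exact one_mem _
      | mul y z _ _ ihy ihz => rw [map_mul]; exact mul_mem ihy ihz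
      | inv y _ ihy => rw [map_inv]; exact inv_mem ihy
    have := hdisp x _ (by rw [mul_inv_cancel_left]) hd
    rw [MulAut.one_apply]
    exact (inv_mul_eq_one.mp this).symm
  have hΦt : frattini P ≠ ⊤ := fun h => by
    obtain ⟨M, hM⟩ : ∃ M : Subgroup P, IsCoatom M :=
      ((eq_top_or_exists_le_coatom (⊥ : Subgroup P)).resolve_left bot_ne_top).imp fun _ h => h.1
    exact hM.1 (top_le_iff.mp (h ▸ frattini_le_coatom hM))
  have hΦfix : ∀ f ∈ frattini P, φ f = f := hW _ hΦt (hinvchar _ inferInstance)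
  have hΦc : frattini P ≤ center P := by
    intro f hf
    refine mem_center_iff.mpr fun x => ?_
    have hle : closure (Set.range fun y => y⁻¹ * φ y) ≤ centralizer ({f} : Set P) := by
      rw [closure_le]
      rintro _ ⟨y, rfl⟩
      refine mem_centralizer_singleton_iff.mpr ?_
      have h1 := hΦfix _ ((inferInstance : (frattini P).Normal).conj_mem f hf y)
      rw [map_mul, map_mul, map_inv, hΦfix f hf] at h1
      calc y⁻¹ * φ y * f = y⁻¹ * (φ y * f * (φ y)⁻¹) * φ y := by group
        _ = f * (y⁻¹ * φ y) := by rw [h1]; group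
    exact mem_centralizer_singleton_iff.mp (hle (hgen ▸ mem_top x))
  have hcΦ := PGroup.commutator_le_frattini hP
  have hfixc : ∀ x ∈ center P, φ x = x := hW _ hna (hinvchar _ inferInstance)
  have hfix : ∀ x, φ x = x → x ∈ commutator P := by
    intro x hx
    let N : P →* Abelianization P :=
      { toFun := fun y => ∏ i ∈ Finset.range q, Abelianization.of ((φ ^ i) y)
        map_one' := by simp
        map_mul' := fun y z => by simp [Finset.prod_mul_distrib] }
    have hN : N = 1 := by
      refine MonoidHom.eq_of_eqOn_dense hgen ?_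
      rintro _ ⟨y, rfl⟩
      show ∏ i ∈ Finset.range q, Abelianization.of ((φ ^ i) (y⁻¹ * φ y)) = 1
      have h2 : ∀ i, Abelianization.of ((φ ^ i) (y⁻¹ * φ y)) =
          Abelianization.of ((φ ^ (i + 1)) y) / Abelianization.of ((φ ^ i) y) := fun i => by
        rw [map_mul, map_inv, pow_succ, MulAut.mul_apply, map_mul, map_inv,
          div_eq_mul_inv, mul_comm]
      rw [Finset.prod_congr rfl fun i _ => h2 i,
        Finset.prod_range_div (fun i => Abelianization.of ((φ ^ i) y)), hφq, pow_zero, div_self']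
    have h3 : N x = 1 := by rw [hN]; rfl
    have h4 : Abelianization.of x ^ q = 1 := by
      rw [← h3]
      show _ = ∏ i ∈ Finset.range q, Abelianization.of ((φ ^ i) x)
      have h5 : ∀ i, (φ ^ i) x = x := by
        intro i
        induction i with
        | zero => rfl
        | succ i ih => rw [pow_succ', MulAut.mul_apply, ih, hx]
      simp only [h5, Finset.prod_const, Finset.card_range]
    rw [← Abelianization.ker_of]
    exact PGroup.eq_one_of_pow_coprime (hP.of_surjective Abelianization.of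
      (QuotientGroup.mk'_surjective _)) ((Nat.coprime_primes hp.out hq).2 hqp.symm) h4
  refine ⟨hcΦ.trans hΦc, fun x hx => hfix x (hfixc x hx),
    fun x => hΦc (PGroup.pow_mem_frattini hP x), q, φ, hq, hqp, hφq,
    fun x => ⟨fun hx => (hcΦ.trans hΦc) (hfix x hx), hfixc x⟩, fun W hZW hinv => ?_⟩
  by_contra hcon
  push Not at hcon
  exact hcon.1 (le_antisymm (fun x hx => (hcΦ.trans hΦc) (hfix x (hW W hcon.2 hinv x hx))) hZW)

theorem card_center_sup_zpowers {P : Type u} [Group P] [Finite P] {p : ℕ} [hp : Fact p.Prime]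
    {v : P} (hv : v ∉ center P) (hvp : v ^ p ∈ center P) :
    Nat.card ↥(center P ⊔ zpowers v) = Nat.card (center P) * p := by
  have h : center P ⊔ zpowers v = (zpowers (QuotientGroup.mk' (center P) v)).comap
      (QuotientGroup.mk' (center P)) := by
    rw [← MonoidHom.map_zpowers, comap_map_eq, QuotientGroup.ker_mk', sup_comm]
  rw [h, Thompson.card_comap_quotient, Nat.card_zpowers, mul_comm]
  congr 1
  refine orderOf_eq_prime ?_ fun h1 => hv ((QuotientGroup.eq_one_iff v).mp h1)
  rw [← map_pow]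
  exact (QuotientGroup.eq_one_iff _).mpr hvp

/-- With one centralizer as small as possible the group is extraspecial of order `p ^ 3`. -/
theorem endgame {P : Type u} [Group P] [Finite P] {p : ℕ} [hp : Fact p.Prime]
    (hP : IsPGroup p P) (h : HasSchmidtAut p P) {w : P} (hw : w ∉ center P)
    (hCw : centralizer ({w} : Set P) ≤ center P ⊔ zpowers w) :
    Nat.card (center P) = p ∧ p ≠ 3 ∧ (p = 2 → ∀ v, v ∉ center P → v ^ 2 ≠ 1) := by
  obtain ⟨hPZ, -, hpow, q, φ, hq, hqp, hφq, hfix, hirr⟩ :=
    structure_of_schmidtAut hP h (fun ht => hw (show w ∈ center P by rw [ht]; exact mem_top w))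
  set Z := center P
  have hsupC : ∀ v : P, Z ⊔ zpowers v ≤ centralizer ({v} : Set P) := fun v =>
    sup_le (fun z hz => mem_centralizer_singleton_iff.mpr (mem_center_iff.mp hz v).symm)
      (zpowers_le.mpr (mem_centralizer_singleton_iff.mpr rfl))
  let f : P → P →* P := PGroup.commHom hPZ
  have hfix' : ∀ x y : P, φ ⁅x, y⁆ = ⁅x, y⁆ := fun x y =>
    (hfix _).mpr (hPZ (PGroup.commutatorElement_mem_commutator x y))
  have hrange : ∀ v, v ∉ Z → (f v).range = commutator P := by
    intro v hv
    refine le_antisymm ?_ ?_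
    · rintro _ ⟨x, rfl⟩
      exact PGroup.commutatorElement_mem_commutator x v
    · let W : Subgroup P :=
        { carrier := {y | ∀ x, ⁅x, y⁆ ∈ (f v).range}
          one_mem' := fun x => by rw [commutatorElement_one_right]; exact one_mem _
          mul_mem' := fun {a b} ha hb x => by
            rw [PGroup.comm_mul_right hPZ]; exact mul_mem (ha x) (hb x)
          inv_mem' := fun {a} ha x => by rw [PGroup.comm_inv_right hPZ]; exact inv_mem (ha x) }
      have hZW : Z ≤ W := fun z hz x => by
        rw [commutatorElement_eq_one_iff_mul_comm.mpr (mem_center_iff.mp hz x)]; exact one_mem _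
      have hWtop : W = ⊤ := (hirr W hZW fun y hy x => by
        have h1 : ⁅x, φ y⁆ = ⁅φ.symm x, y⁆ := by
          nth_rewrite 1 [← φ.apply_symm_apply x]
          rw [← map_commutatorElement, hfix']
        rw [h1]; exact hy _).resolve_left fun hWZ => hv (hWZ ▸ (fun x => ⟨x, rfl⟩ : v ∈ W))
      rw [commutator_def, Subgroup.commutator_le]
      intro x _ y _
      exact (hWtop ▸ mem_top y : y ∈ W) x
  have hcardC : ∀ v, v ∉ Z →
      Nat.card (centralizer ({v} : Set P)) * Nat.card (commutator P) = Nat.card P := by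
    intro v hv
    have hker : (f v).ker = centralizer ({v} : Set P) := by
      ext x
      rw [MonoidHom.mem_ker, mem_centralizer_singleton_iff]
      exact commutatorElement_eq_one_iff_mul_comm
    rw [← hker, ← hrange v hv, ← index_ker]
    exact card_mul_index _
  have hCw' : centralizer ({w} : Set P) = Z ⊔ zpowers w := le_antisymm hCw (hsupC w)
  have hC : ∀ v, v ∉ Z → centralizer ({v} : Set P) = Z ⊔ zpowers v := by
    intro v hv
    refine (Subgroup.eq_of_le_of_card_ge (hsupC v) ?_).symm
    rw [card_center_sup_zpowers hv (hpow v), ← card_center_sup_zpowers hw (hpow w), ← hCw']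
    refine (Nat.eq_of_mul_eq_mul_right (Nat.card_pos (α := commutator P)) ?_).le
    rw [hcardC v hv, hcardC w hw]
  -- `φ v` and `φ⁻¹ v`
  have hrel : ∀ v, v ∉ Z → φ v * φ.symm v ∈ Z ⊔ zpowers v := by
    intro v hv
    rw [← hC v hv, mem_centralizer_singleton_iff, ← commutatorElement_eq_one_iff_mul_comm,
      PGroup.comm_mul_left hPZ]
    have h1 : ⁅φ.symm v, v⁆ = ⁅φ v, v⁆⁻¹ := by
      rw [← hfix' (φ.symm v) v, map_commutatorElement, φ.apply_symm_apply, commutatorElement_inv]
    rw [h1, mul_inv_cancel]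
  have hnotZ : ∀ v, v ∉ Z → φ v ∉ Z := fun v hv h => hv (by
    have := φ.injective ((hfix _).mpr h)
    rwa [this] at h)
  have hnotinv : ∀ v, v ∉ Z → φ v ∉ Z ⊔ zpowers v := by
    intro v hv hmem
    have hle : Z ⊔ zpowers v ≤ (Z ⊔ zpowers v).comap φ.toMonoidHom :=
      sup_le (fun z hz => mem_sup_left (((hfix z).mpr hz).symm ▸ hz : φ z ∈ Z))
        (zpowers_le.mpr hmem)
    rcases hirr _ le_sup_left (fun x hx => hle hx) with h1 | h1
    · exact hv (h1 ▸ mem_sup_right (mem_zpowers v))
    · have h2 : (⊤ : Subgroup P) ≤ centralizer ({v} : Set P) := h1 ▸ hsupC v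
      exact hv (mem_center_iff.mpr fun g => mem_centralizer_singleton_iff.mp (h2 (mem_top g)))
  have hv0 : w ∉ Z := hw
  set W := Z ⊔ zpowers w ⊔ zpowers (φ w)
  have hWtop : W = ⊤ := by
    refine (hirr W (le_sup_left.trans le_sup_left) fun x hx => ?_).resolve_left fun h1 =>
      hw (h1 ▸ mem_sup_left (mem_sup_right (mem_zpowers w)))
    have hle : W ≤ W.comap φ.toMonoidHom := by
      refine sup_le (sup_le (fun z hz => mem_sup_left (mem_sup_left
        (((hfix z).mpr hz).symm ▸ hz : φ z ∈ Z))) (zpowers_le.mpr ?_)) (zpowers_le.mpr ?_)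
      · exact mem_sup_right (mem_zpowers _)
      · show φ (φ w) ∈ W
        have h1 := hrel (φ w) (hnotZ w hw)
        rw [φ.symm_apply_apply] at h1
        have h2 : φ (φ w) * w ∈ W :=
          (sup_le (le_sup_left.trans le_sup_left) le_sup_right : Z ⊔ zpowers (φ w) ≤ W) h1
        simpa using mul_mem h2 (inv_mem (show w ∈ W from mem_sup_left (mem_sup_right (mem_zpowers w))))
    exact hle hx
  set π := QuotientGroup.mk' Z
  have hidx : Nat.card P = Nat.card Z * (p * p) := by
    refine le_antisymm ?_ ?_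
    · rw [← Z.card_mul_index, index_eq_card]
      refine Nat.mul_le_mul_left _ ?_
      have h1 : zpowers (π w) ⊔ zpowers (π (φ w)) = ⊤ := by
        rw [← MonoidHom.map_zpowers, ← MonoidHom.map_zpowers, ← Subgroup.map_sup,
          ← map_top_of_surjective π (QuotientGroup.mk'_surjective Z), ← hWtop]
        refine le_antisymm (map_mono (sup_le (le_sup_of_le_left le_sup_right) le_sup_right)) ?_
        rw [Subgroup.map_sup, Subgroup.map_sup, Subgroup.map_sup,
          show Z.map π = ⊥ from QuotientGroup.map_mk'_self Z, bot_sup_eq]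
      haveI : IsMulCommutative (P ⧸ Z) := ⟨⟨fun a b => by
        obtain ⟨a, rfl⟩ := QuotientGroup.mk'_surjective Z a
        obtain ⟨b, rfl⟩ := QuotientGroup.mk'_surjective Z b
        rw [← commutatorElement_eq_one_iff_mul_comm, ← map_commutatorElement]
        exact (QuotientGroup.eq_one_iff _).mpr (hPZ (PGroup.commutatorElement_mem_commutator a b))⟩⟩
      have h2 := Solvable.card_sup_mul_card_inf (zpowers (π w)) (zpowers (π (φ w)))
      rw [h1, card_top] at h2
      refine (Nat.le_mul_of_pos_right _ Nat.card_pos).trans (h2.le.trans ?_)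
      rw [Nat.card_zpowers, Nat.card_zpowers]
      refine Nat.mul_le_mul (Nat.le_of_dvd hp.out.pos ?_) (Nat.le_of_dvd hp.out.pos ?_) <;>
        refine orderOf_dvd_of_pow_eq_one ?_ <;> rw [← map_pow] <;>
        exact (QuotientGroup.eq_one_iff _).mpr (hpow _)
    · have hne : Z ⊔ zpowers w ≠ ⊤ := fun h1 => hnotinv w hw (h1 ▸ mem_top _)
      obtain ⟨k, hk⟩ := IsPGroup.exists_card_eq (hP.to_subgroup (Z ⊔ zpowers w))
      obtain ⟨n, hn⟩ := hP.exists_card_eq
      rw [← mul_assoc, ← card_center_sup_zpowers hw (hpow w), hn, hk, ← pow_succ]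
      refine Nat.pow_le_pow_right hp.out.pos ?_
      by_contra hlt
      refine hne (eq_top_of_le_card _ ?_)
      rw [hn, hk]
      exact Nat.pow_le_pow_right hp.out.pos (by omega)
  have hZp : Nat.card Z = p := by
    have h1 := hcardC w hw
    rw [hCw', card_center_sup_zpowers hw (hpow w), hidx, mul_assoc] at h1
    have h2 := Nat.eq_of_mul_eq_mul_left Nat.card_pos h1
    have h3 := Nat.eq_of_mul_eq_mul_left hp.out.pos h2
    have heq : commutator P = Z := by
      obtain ⟨-, hZP, -⟩ := structure_of_schmidtAut hP h (fun ht => hw (show w ∈ center P by rw [ht]; exact mem_top w))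
      exact le_antisymm hPZ hZP
    rwa [heq] at h3
  have hq2 : q ≠ 2 := by
    rintro rfl
    have hsymm : ∀ v, φ.symm v = φ v := fun v => by
      rw [MulEquiv.symm_apply_eq]
      show v = (φ * φ) v
      rw [← pow_two, hφq, MulAut.one_apply]
    set m := w * φ w
    have hφφ : φ (φ w) = w := by rw [← hsymm w, φ.apply_symm_apply]
    have hm : φ m = ⁅φ w, w⁆ * m := by
      show φ (w * φ w) = ⁅φ w, w⁆ * (w * φ w)
      rw [map_mul, hφφ, commutatorElement_def]
      group
    have hmZ : m ∈ Z := by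
      have h1 : φ (φ m) = m := by rw [← hsymm m, φ.apply_symm_apply]
      rw [hm, map_mul, hfix', hm, ← mul_assoc, mul_eq_right, ← pow_two] at h1
      have h2 := PGroup.eq_one_of_pow_coprime hP ((Nat.coprime_primes hp.out Nat.prime_two).2 hqp.symm) h1
      rw [h2, one_mul] at hm
      exact (hfix m).mp hm
    refine hnotinv w hw ?_
    rw [show φ w = w⁻¹ * m by rw [inv_mul_cancel_left]]
    exact mul_mem (mem_sup_right (inv_mem (mem_zpowers w))) (mem_sup_left hmZ)
  have hqdvd : q ∣ p * ((p - 1) * (p + 1)) := by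
    haveI := Fact.mk hq
    have hA : IsPGroup q (zpowers φ) := fun a => ⟨1, Subtype.ext (by
      obtain ⟨k, hk⟩ := mem_zpowers_iff.mp a.2
      rw [pow_one, Subgroup.coe_pow, ← hk, ← zpow_natCast, ← zpow_mul, mul_comm, zpow_mul,
        zpow_natCast, hφq, one_zpow, OneMemClass.coe_one])⟩
    have h1 := hA.card_modEq_card_fixedPoints P
    have h2 : MulAction.fixedPoints (zpowers φ) P = (Z : Set P) := by
      ext x
      constructor
      · exact fun hx => (hfix x).mp (hx ⟨φ, mem_zpowers φ⟩)
      · intro hx a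
        obtain ⟨k, hk⟩ := mem_zpowers_iff.mp a.2
        have h3 : φ ∈ MulAction.stabilizer (MulAut P) x := (hfix x).mpr hx
        have h4 : (a : MulAut P) ∈ MulAction.stabilizer (MulAut P) x := hk ▸ zpow_mem h3 k
        exact h4
    rw [h2, hidx] at h1
    have h5 : Nat.card ↑(Z : Set P) = p := hZp
    rw [h5, hZp] at h1
    have h6 := (Nat.modEq_iff_dvd' (Nat.le_mul_of_pos_right p
      (Nat.mul_pos hp.out.pos hp.out.pos))).mp h1.symm
    convert h6 using 1
    obtain ⟨k, hk⟩ := Nat.exists_eq_add_of_le hp.out.one_le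
    subst hk
    simp only [Nat.add_sub_cancel_left]
    refine (Nat.sub_eq_of_eq_add ?_).symm
    ring
  refine ⟨hZp, ?_, ?_⟩
  · rintro rfl
    rcases hq.dvd_mul.mp hqdvd with h1 | h1
    · exact hqp ((Nat.prime_dvd_prime_iff_eq hq Nat.prime_three).mp h1)
    · exact hq2 ((Nat.prime_dvd_prime_iff_eq hq Nat.prime_two).mp
        (hq.dvd_of_dvd_pow (show q ∣ 2 ^ 3 by simpa using h1)))
  · rintro rfl v hv hv2
    have hq3 : q = 3 := by
      rcases hq.dvd_mul.mp hqdvd with h1 | h1
      · exact absurd ((Nat.prime_dvd_prime_iff_eq hq Nat.prime_two).mp h1) hqp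
      · exact (Nat.prime_dvd_prime_iff_eq hq Nat.prime_three).mp (by simpa using h1)
    subst hq3
    set b := φ v with hb
    have hb2 : b ^ 2 = 1 := by rw [hb, ← map_pow, hv2, map_one]
    have hab : ⁅v, b⁆ ≠ 1 := fun h1 => hnotinv v hv (by
      rw [← hC v hv, mem_centralizer_singleton_iff]
      exact (commutatorElement_eq_one_iff_mul_comm.mp h1).symm)
    have hbv := hrel b (hnotZ v hv)
    rw [hb, φ.symm_apply_apply, ← hb] at hbv
    obtain ⟨z, hz, y, hy, hzy⟩ := mem_sup_of_normal_left.mp hbv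
    have hc2 : (φ b) ^ 2 = 1 := by rw [← map_pow, hb2, map_one]
    have hyb : y = 1 ∨ y = b := by
      obtain ⟨i, rfl⟩ := mem_zpowers_iff.mp hy
      rcases Int.emod_two_eq i with h3 | h3 <;>
        rw [← Int.emod_add_mul_ediv i 2, zpow_add, zpow_mul, zpow_ofNat b 2, hb2, one_zpow,
          mul_one, h3]
      · exact Or.inl (zpow_zero b)
      · exact Or.inr (zpow_one b)
    have hvinv : v⁻¹ = v := inv_eq_of_mul_eq_one_right (by rw [← pow_two, hv2])
    have hcb : φ b = z * (y * v) := by
      rw [← mul_assoc, hzy, mul_assoc, ← pow_two, hv2, mul_one]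
    have hz2 : z ^ 2 = 1 := by
      have h6 : orderOf (⟨z, hz⟩ : Z) ∣ 2 := (_root_.orderOf_dvd_natCard _).trans hZp.dvd
      exact congrArg Subtype.val (orderOf_dvd_iff_pow_eq_one.mp h6)
    rcases hyb with rfl | rfl
    · -- `φ² v ∈ v Z`
      rw [one_mul] at hcb
      have h7 : φ (φ b) = v := by
        show (φ * φ * φ) v = v
        rw [← pow_two, ← pow_succ, hφq, MulAut.one_apply]
      rw [hcb, map_mul, (hfix z).mpr hz, ← hb] at h7
      refine hnotinv v hv ?_
      rw [← hb, eq_inv_mul_of_mul_eq h7]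
      exact mul_mem (mem_sup_left (inv_mem hz)) (mem_sup_right (mem_zpowers v))
    · rw [hcb, Commute.mul_pow (mem_center_iff.mp hz (b * v)).symm, hz2, one_mul] at hc2
      refine hab ?_
      rw [commutatorElement_eq_one_iff_mul_comm]
      have hbinv : b⁻¹ = b := inv_eq_of_mul_eq_one_right (by rw [← pow_two, hb2])
      have h8 : (b * v)⁻¹ = b * v := inv_eq_of_mul_eq_one_right (by rw [← pow_two, hc2])
      rw [mul_inv_rev, hvinv, hbinv] at h8
      exact h8

end Cfsg.Agent.SchmidtPLen
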